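import Groth.Agent.S5161
import Mathlib.AlgebraicGeometry.Noetherian
import Mathlib.AlgebraicGeometry.Morphisms.Affine

/-!
# Opens containing a dense open with affine inclusion
-/

set_option autoImplicit false
set_option backward.isDefEq.respectTransparency false
set_option linter.unusedSectionVars false

universe u

open CategoryTheory CategoryTheory.Limits AlgebraicGeometry TopologicalSpace

namespace Groth.Agent.AffOpenMin2

variable {S : Scheme.{u}}

/-- A point of the complement of `V` without proper generisations in that complement. -/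
def IsGenOff (V : S.Opens) (p : S) : Prop := p ∉ V ∧ ∀ q : S, q ⤳ p → q ∉ V → q = p

theorem exists_isGenOff [IsNoetherian S] {V : S.Opens} {x : S} (hx : x ∉ V) :
    ∃ p, IsGenOff V p ∧ p ⤳ x := by
  let Z : Set S := (V : Set S)ᶜ
  have hZ : IsClosed Z := V.isOpen.isClosed_compl
  obtain ⟨C, hC, hxC⟩ : ∃ C ∈ irreducibleComponents (↥Z), (⟨x, hx⟩ : ↥Z) ∈ C :=
    ⟨irreducibleComponent _, irreducibleComponent_mem_irreducibleComponents _, mem_irreducibleComponent⟩
  have hCirr : IsIrreducible (Subtype.val '' C) := hC.1.image _ continuous_subtype_val.continuousOn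
  have hCcl : IsClosed (Subtype.val '' C) :=
    hZ.isClosedEmbedding_subtypeVal.isClosedMap _ (isClosed_of_mem_irreducibleComponents C hC)
  obtain ⟨p, hp⟩ := QuasiSober.sober hCirr hCcl
  have hpC : p ∈ Subtype.val '' C := hp.mem
  obtain ⟨p', hp'C, rfl⟩ := hpC
  refine ⟨p', ⟨p'.2, fun q hq hqV => ?_⟩, hp.specializes ⟨_, hxC, rfl⟩⟩
  have hsub : C ⊆ closure {(⟨q, hqV⟩ : ↥Z)} := by
    intro y hy
    rw [closure_subtype, Set.image_singleton]
    exact closure_mono (by simp) (hp.specializes ⟨_, hy, rfl⟩ |>.mem_closure |> fun h =>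
      (closure_minimal (Set.singleton_subset_iff.2 hq.mem_closure) isClosed_closure h))
  have heq : closure {(⟨q, hqV⟩ : ↥Z)} = C :=
    (hC.2 isIrreducible_singleton.closure hsub).antisymm hsub
  have hqC : (⟨q, hqV⟩ : ↥Z) ∈ C := heq ▸ subset_closure rfl
  exact (hq.antisymm (hp.specializes ⟨_, hqC, rfl⟩)).eq

theorem finite_isGenOff [IsNoetherian S] (V : S.Opens) : {p : S | IsGenOff V p}.Finite := by
  let Z : Set S := (V : Set S)ᶜ
  have hfin : (irreducibleComponents (↥Z)).Finite :=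
    TopologicalSpace.NoetherianSpace.finite_irreducibleComponents
  let Φ : {p : S | IsGenOff V p} → Set (↥Z) := fun p => closure {(⟨p.1, p.2.1⟩ : ↥Z)}
  have hinj : Function.Injective Φ := fun p q h => by
    have h1 : (⟨p.1, p.2.1⟩ : ↥Z) ∈ closure {(⟨q.1, q.2.1⟩ : ↥Z)} := by
      show _ ∈ Φ q
      rw [← h]
      exact subset_closure rfl
    have h2 : (⟨q.1, q.2.1⟩ : ↥Z) ∈ closure {(⟨p.1, p.2.1⟩ : ↥Z)} := by
      show _ ∈ Φ p
      rw [h]
      exact subset_closure rfl
    exact Subtype.ext ((((specializes_iff_mem_closure.2 h2).map continuous_subtype_val).antisymm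
      ((specializes_iff_mem_closure.2 h1).map continuous_subtype_val)).eq)
  have hmem : ∀ p, Φ p ∈ irreducibleComponents (↥Z) := fun p => by
    refine ⟨isIrreducible_singleton.closure, fun D hD hsub => ?_⟩
    have hDi : IsIrreducible (Subtype.val '' D) := hD.image _ continuous_subtype_val.continuousOn
    obtain ⟨q, hq⟩ := QuasiSober.sober hDi.closure isClosed_closure
    have hqV : q ∉ V := closure_minimal (Subtype.coe_image_subset _ _) V.isOpen.isClosed_compl hq.mem
    have hqp : q ⤳ p.1 := hq.specializes (subset_closure ⟨_, hsub (subset_closure rfl), rfl⟩)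
    intro y hy
    rw [closure_subtype, Set.image_singleton]
    exact (p.2.2 q hqp hqV ▸ hq.specializes (subset_closure ⟨_, hy, rfl⟩)).mem_closure
  have := hfin.to_subtype
  exact Set.finite_coe_iff.1 (Finite.of_injective (fun p => (⟨Φ p, hmem p⟩ : irreducibleComponents (↥Z)))
    fun p q h => hinj (Subtype.ext_iff.1 h))

theorem mem_of_minimal {A : Type u} [CommRing A] [IsNoetherianRing A] {U : Opens (PrimeSpectrum A)}
    (hU : Dense (U : Set (PrimeSpectrum A))) {q : PrimeSpectrum A} (hq : q.asIdeal ∈ minimalPrimes A) :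
    q ∈ U := by
  classical
  have hfin : ((minimalPrimes A) \ {q.asIdeal}).Finite :=
    (minimalPrimes.finite_of_isNoetherianRing A).diff
  have : ∀ J ∈ (minimalPrimes A) \ {q.asIdeal}, ∃ a ∈ J, a ∉ q.asIdeal := fun J hJ =>
    Set.not_subset.1 fun h => hJ.2 (le_antisymm h (hq.2 hJ.1.1 h))
  choose a haJ haq using this
  let f : A := ∏ J ∈ hfin.toFinset.attach, a J.1 (hfin.mem_toFinset.1 J.2)
  have hfq : f ∉ q.asIdeal := fun h => by
    obtain ⟨J, -, hJ⟩ := (q.2.prod_mem_iff).1 h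
    exact haq _ _ hJ
  obtain ⟨r, hrf, hrU⟩ := hU.inter_open_nonempty _ (PrimeSpectrum.basicOpen f).isOpen ⟨q, hfq⟩
  obtain ⟨J, hJ, hJr⟩ := Ideal.exists_minimalPrimes_le (bot_le : ⊥ ≤ r.asIdeal)
  have hJq : J = q.asIdeal := by
    by_contra hne
    refine hrf (hJr ?_)
    have hJm : J ∈ hfin.toFinset := hfin.mem_toFinset.2 ⟨hJ, hne⟩
    exact Ideal.mem_of_dvd _ (Finset.dvd_prod_of_mem (fun J => a J.1 (hfin.mem_toFinset.1 J.2))
      (Finset.mem_attach _ ⟨J, hJm⟩)) (haJ _ _)
  exact ((PrimeSpectrum.le_iff_specializes q r).1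
    (show q.asIdeal ≤ r.asIdeal from hJq ▸ hJr)).mem_open U.isOpen hrU

theorem isGenOff_of_affine [IsNoetherian S] {U V : S.Opens} (hU : Dense (U : Set S)) (hUV : U ≤ V)
    [IsAffineHom V.ι] {p : S} (hp : IsGenOff V p) : IsGenOff U p := by
  refine ⟨fun h => hp.1 (hUV h), fun q hqp hqU => ?_⟩
  obtain ⟨_, ⟨W, hW, rfl⟩, hpW, -⟩ := S.isBasis_affineOpens.exists_subset_of_mem_open (Set.mem_univ p) isOpen_univ
  have hqW : q ∈ W := hqp.mem_open W.isOpen hpW
  haveI : IsNoetherianRing Γ(S, W) := IsLocallyNoetherian.component_noetherian ⟨W, hW⟩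
  let e := hW.fromSpec
  have hVW : IsAffineOpen (V ⊓ W) := by
    have h := (hW.preimage V.ι).image_of_isOpenImmersion V.ι
    rwa [Scheme.Hom.image_preimage_eq_opensRange_inf, Scheme.Opens.opensRange_ι] at h
  have hV' : IsAffineOpen (e ⁻¹ᵁ V) := by
    have e1 : e ⁻¹ᵁ V = e ⁻¹ᵁ (V ⊓ W) := by
      ext z
      have : e.base z ∈ W := by
        rw [← SetLike.mem_coe, ← hW.range_fromSpec]
        exact ⟨z, rfl⟩
      exact ⟨fun h => ⟨h, this⟩, fun h => h.1⟩
    rw [e1]
    exact hVW.preimage_of_isOpenImmersion e (by rw [hW.opensRange_fromSpec]; exact inf_le_right)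
  obtain ⟨p', rfl⟩ : p ∈ Set.range e.base := by rw [hW.range_fromSpec]; exact hpW
  obtain ⟨q', rfl⟩ : q ∈ Set.range e.base := by rw [hW.range_fromSpec]; exact hqW
  have hle : q'.asIdeal ≤ p'.asIdeal :=
    (PrimeSpectrum.le_iff_specializes q' p').2 (e.isOpenEmbedding.isInducing.specializes_iff.1 hqp)
  by_contra hne
  have hlt : q'.asIdeal < p'.asIdeal := lt_of_le_of_ne hle fun h => hne (by rw [PrimeSpectrum.ext h])
  have hh : p'.asIdeal.height ≤ 1 :=
    Groth.Agent.S5161.result Γ(S, W) (e ⁻¹ᵁ V) hV' p' hp.1 fun r hr hrV =>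
      e.isOpenEmbedding.injective (hp.2 _ (((PrimeSpectrum.le_iff_specializes r p').1 hr).map e.base.hom.continuous) hrV)
  have h0 : q'.asIdeal.height = 0 := by
    have h1 := Ideal.height_add_one_le_of_lt_of_isPrime hlt
    have h2 : q'.asIdeal.height + 1 ≤ 0 + 1 := by rw [zero_add]; exact h1.trans hh
    exact le_antisymm ((ENat.add_le_add_iff_right ENat.one_ne_top).1 h2) bot_le
  refine hqU (mem_of_minimal (A := Γ(S, W)) (U := e ⁻¹ᵁ U) ?_ ((Ideal.height_eq_zero_iff).1 h0))
  exact hU.preimage e.isOpenEmbedding.isOpenMap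

theorem eq_of_isGenOff_iff [IsNoetherian S] {U V V' : S.Opens} (hU : Dense (U : Set S)) (hV : U ≤ V)
    [IsAffineHom V.ι] (h : ∀ p, IsGenOff U p → p ∉ V → p ∉ V') : V' ≤ V := by
  intro x hx
  by_contra hxV
  obtain ⟨p, hp, hpx⟩ := exists_isGenOff hxV
  exact h p (isGenOff_of_affine hU hV hp) hp.1 (hpx.mem_open V'.isOpen hx)

theorem isAffineHom_inf_ι {V W : S.Opens} [hV : IsAffineHom V.ι] [hW : IsAffineHom W.ι] :
    IsAffineHom (V ⊓ W).ι := by
  refine ⟨fun O hO => ?_⟩
  rw [← ((V ⊓ W).ι).isAffineOpen_iff_of_isOpenImmersion, Scheme.Hom.image_preimage_eq_opensRange_inf,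
    Scheme.Opens.opensRange_ι, inf_assoc]
  have hWO : IsAffineOpen (W ⊓ O) := by
    have h := (hO.preimage W.ι).image_of_isOpenImmersion W.ι
    rwa [Scheme.Hom.image_preimage_eq_opensRange_inf, Scheme.Opens.opensRange_ι] at h
  have h := (hWO.preimage V.ι).image_of_isOpenImmersion V.ι
  rwa [Scheme.Hom.image_preimage_eq_opensRange_inf, Scheme.Opens.opensRange_ι] at h

theorem finite_and_least [IsNoetherian S] (U : S.Opens) (hU : Dense (U : Set S)) :
    Set.Finite {V : S.Opens | U ≤ V ∧ IsAffineHom V.ι} ∧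
      ∃ V₀ : S.Opens, (U ≤ V₀ ∧ IsAffineHom V₀.ι) ∧
        ∀ V : S.Opens, U ≤ V → IsAffineHom V.ι → V₀ ≤ V := by
  classical
  let Φ : S.Opens → Set S := fun V => {p | IsGenOff U p ∧ p ∉ V}
  have hfin : Set.Finite {V : S.Opens | U ≤ V ∧ IsAffineHom V.ι} := by
    refine Set.Finite.of_finite_image (f := Φ) ((finite_isGenOff U).finite_subsets.subset ?_) ?_
    · rintro _ ⟨V, -, rfl⟩ p hp
      exact hp.1
    · rintro V ⟨hV, iV⟩ V' ⟨hV', iV'⟩ h
      have h' : ∀ p, (IsGenOff U p ∧ p ∉ V) ↔ (IsGenOff U p ∧ p ∉ V') := fun p => Set.ext_iff.1 h p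
      exact le_antisymm (eq_of_isGenOff_iff (V := V') hU hV' fun p hp hpV => ((h' p).2 ⟨hp, hpV⟩).2)
        (eq_of_isGenOff_iff (V := V) hU hV fun p hp hpV => ((h' p).1 ⟨hp, hpV⟩).2)
  haveI : IsIso (⊤ : S.Opens).ι := by rw [← Scheme.topIso_hom]; infer_instance
  have key : ∀ s : Finset S.Opens, (∀ V ∈ s, U ≤ V ∧ IsAffineHom V.ι) → U ≤ s.inf id ∧ IsAffineHom (s.inf id).ι := by
    intro s
    induction s using Finset.induction_on with
    | empty =>
      intro _
      rw [Finset.inf_empty]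
      exact ⟨le_top, inferInstance⟩
    | insert V s hVs ih =>
      intro hs
      obtain ⟨h1, h2⟩ := hs V (Finset.mem_insert_self _ _)
      obtain ⟨h3, h4⟩ := ih fun W hW => hs W (Finset.mem_insert_of_mem hW)
      rw [Finset.inf_insert]
      exact ⟨le_inf h1 h3, @isAffineHom_inf_ι _ V _ h2 h4⟩
  exact ⟨hfin, hfin.toFinset.inf id, key _ fun V hV => hfin.mem_toFinset.1 hV,
    fun V h1 h2 => Finset.inf_le (f := id) (hfin.mem_toFinset.2 ⟨h1, h2⟩)⟩

end Groth.Agent.AffOpenMin2
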